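import Mathlib
import Cfsg.Agent.AltL.Def2

/-!
Auxiliary linear algebra and group theory for the reduction to perfect central extensions.
-/

set_option autoImplicit false

namespace Cfsg.Agent.AltL

open scoped _root_.Classical

/-- joint eigenvectors with distinct weights are independent -/
theorem aLi {k V ι J : Type*} [Field k] [AddCommGroup V] [Module k V] (f : ι → Module.End k V)
    (v : J → V) (χ : J → ι → k) (hv : ∀ j, v j ≠ 0) (hf : ∀ j i, f i (v j) = χ j i • v j)
    (hχ : Function.Injective χ) : LinearIndependent k v := by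
  rw [linearIndependent_iff']
  intro s
  induction s using Finset.induction_on with
  | empty => intro g _ i hi; simp at hi
  | insert a s ha ih =>
    intro g hg
    rw [Finset.sum_insert ha] at hg
    have key : ∀ j ∈ s, g j = 0 := by
      intro j hj
      have hne : χ j ≠ χ a := fun h => ha (hχ h ▸ hj)
      obtain ⟨i, hi⟩ := Function.ne_iff.1 hne
      have h1 : f i (g a • v a + ∑ x ∈ s, g x • v x) - χ a i • (g a • v a + ∑ x ∈ s, g x • v x)
          = 0 := by rw [hg]; simp
      have h2 : ∑ x ∈ s, (g x * (χ x i - χ a i)) • v x = 0 := by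
        rw [← h1, map_add, map_sum, smul_add, Finset.smul_sum, map_smul, hf, smul_comm (χ a i),
          add_sub_add_left_eq_sub, ← Finset.sum_sub_distrib]
        refine Finset.sum_congr rfl fun x _ => ?_
        rw [map_smul, hf, smul_smul, smul_smul, ← sub_smul]
        congr 1
        ring
      have h3 := ih _ h2 j hj
      exact (mul_eq_zero.1 h3).resolve_right (sub_ne_zero.2 hi)
    intro j hj
    rcases Finset.mem_insert.1 hj with rfl | hj
    · rw [Finset.sum_eq_zero (fun x hx => by rw [key x hx, zero_smul]), add_zero] at hg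
      exact (smul_eq_zero.1 hg).resolve_right (hv _)
    · exact key j hj

/-- commuting operators have a common eigenvector -/
theorem aCommon {k V ι : Type*} [Field k] [IsAlgClosed k] [AddCommGroup V] [Module k V]
    [FiniteDimensional k V] [Nontrivial V] (f : ι → Module.End k V)
    (hc : ∀ i j, f i * f j = f j * f i) :
    ∃ v : V, v ≠ 0 ∧ ∃ χ : ι → k, ∀ i, f i v = χ i • v := by
  have hex : ∃ n, ∃ U : Submodule k V, U ≠ ⊥ ∧ (∀ i, ∀ v ∈ U, f i v ∈ U) ∧
      Module.finrank k U = n := ⟨_, ⊤, top_ne_bot, fun _ _ _ => trivial, rfl⟩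
  obtain ⟨U, hU, hinv, hn⟩ := Nat.find_spec hex
  have hmin : ∀ U' : Submodule k V, U' ≠ ⊥ → (∀ i, ∀ v ∈ U', f i v ∈ U') → U' ≤ U → U' = U := by
    intro U' h1 h2 h3
    have := Nat.find_min' hex ⟨U', h1, h2, rfl⟩
    exact Submodule.eq_of_le_of_finrank_le h3 (hn ▸ this)
  have hs : ∀ i, ∃ c : k, ∀ v ∈ U, f i v = c • v := by
    intro i
    haveI : Nontrivial U := Submodule.nontrivial_iff_ne_bot.2 hU
    obtain ⟨c, hc'⟩ := Module.End.exists_eigenvalue ((f i).restrict (hinv i))
    obtain ⟨w, hw⟩ := hc'.exists_hasEigenvector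
    refine ⟨c, ?_⟩
    have := hmin (U ⊓ (f i).eigenspace c) ?_ ?_ inf_le_left
    · intro v hv
      rw [← this] at hv
      exact Module.End.mem_eigenspace_iff.1 hv.2
    · rw [Submodule.ne_bot_iff]
      refine ⟨w, ⟨w.2, Module.End.mem_eigenspace_iff.2 ?_⟩, fun h => hw.2 (Subtype.ext h)⟩
      exact congrArg Subtype.val hw.apply_eq_smul
    · intro j v hv
      refine ⟨hinv j v hv.1, Module.End.mem_eigenspace_iff.2 ?_⟩
      have h1 := Module.End.mem_eigenspace_iff.1 hv.2
      rw [← Module.End.mul_apply, hc, Module.End.mul_apply, h1, map_smul]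
  choose χ hχ using hs
  obtain ⟨v, hv, hv0⟩ := (Submodule.ne_bot_iff U).1 hU
  exact ⟨v, hv0, χ, fun i => hχ i v hv⟩

theorem aCardAlt (r : ℕ) (hr : 9 ≤ r) :
    2 * Nat.card (alternatingGroup (Fin r)) = r.factorial := by
  haveI : Nontrivial (Fin r) := Fin.nontrivial_iff_two_le.2 (by omega)
  rw [two_mul_nat_card_alternatingGroup, Nat.card_perm]
  simp

theorem aKerIndex {H : Type*} [Group H] {r : ℕ} (π : H →* alternatingGroup (Fin r))
    (hπ : Function.Surjective π) : π.ker.index = Nat.card (alternatingGroup (Fin r)) := by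
  rw [Subgroup.index_ker, MonoidHom.range_eq_top.2 hπ, Subgroup.card_top]

/-- proper subgroups have index at least `r` -/
theorem aIdx {H : Type*} [Group H] [Finite H] {r : ℕ} (hr : 9 ≤ r)
    (π : H →* alternatingGroup (Fin r)) (hπ : Function.Surjective π)
    (hN : ∀ N : Subgroup H, N.Normal → N ≤ π.ker ∨ N = ⊤) (S : Subgroup H) (hS : S ≠ ⊤) :
    r ≤ S.index := by
  have h1 : S.normalCore ≤ π.ker := by
    rcases hN S.normalCore inferInstance with h | h
    · exact h
    · exact absurd (top_le_iff.1 (h ▸ S.normalCore_le)) hS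
  have h2 : π.ker.index ∣ S.normalCore.index := Subgroup.index_dvd_of_le h1
  have h3 : S.normalCore.index ∣ (S.index).factorial := by
    rw [Subgroup.normalCore_eq_ker, Subgroup.index_ker]
    have := Subgroup.card_subgroup_dvd_card (MulAction.toPermHom H (H ⧸ S)).range
    rwa [Nat.card_perm] at this
  have h4 := Nat.le_of_dvd (Nat.factorial_pos _) (h2.trans h3)
  rw [aKerIndex π hπ] at h4
  have h5 := aCardAlt r hr
  by_contra hlt
  push Not at hlt
  obtain ⟨m, rfl⟩ : ∃ m, r = m + 1 := ⟨r - 1, by omega⟩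
  have h6 : (S.index).factorial ≤ m.factorial := Nat.factorial_le (by omega)
  rw [Nat.factorial_succ] at h5
  have h7 := Nat.factorial_pos m
  nlinarith

theorem aElem0 {H M : Type*} [Group H] [AddCommGroup M] [Finite M] (l : ℕ) [Fact l.Prime]
    [Module (ZMod l) M] (f : H → M →+ M) (h1 : ∀ x, f 1 x = x)
    (hm : ∀ g h x, f (g * h) x = f g (f h x)) :
    ∃ d, Nat.card M = l ^ d ∧ ∃ σ : H →* Matrix (Fin d) (Fin d) (ZMod l),
      ∀ g, σ g = 1 → ∀ x, f g x = x := by
  haveI : Module.Finite (ZMod l) M := Module.Finite.of_finite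
  refine ⟨Module.finrank (ZMod l) M, ?_, ?_⟩
  · have := Module.natCard_eq_pow_finrank (K := ZMod l) (V := M)
    rw [Nat.card_zmod] at this
    exact this
  · let b := Module.finBasis (ZMod l) M
    let σ : H →* Matrix (Fin (Module.finrank (ZMod l) M)) (Fin (Module.finrank (ZMod l) M))
        (ZMod l) :=
      { toFun := fun g => LinearMap.toMatrixAlgEquiv b ((f g).toZModLinearMap l)
        map_one' := by
          rw [← map_one (LinearMap.toMatrixAlgEquiv b)]
          congr 1
          ext x
          exact h1 x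
        map_mul' := fun g h => by
          rw [← map_mul]
          congr 1
          ext x
          exact hm g h x }
    refine ⟨σ, fun g hg x => ?_⟩
    have h2 : (f g).toZModLinearMap l = 1 :=
      (LinearMap.toMatrixAlgEquiv b).injective (by rw [map_one]; exact hg)
    exact LinearMap.congr_fun h2 x

/-- an elementary abelian group with operators, in coordinates -/
theorem aElem {H E : Type*} [Group H] [Group E] [Finite E] (l : ℕ) [Fact l.Prime]
    (hc : ∀ a b : E, a * b = b * a) (hl : ∀ a : E, a ^ l = 1) (φ : H →* MulAut E) :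
    ∃ d, Nat.card E = l ^ d ∧ ∃ σ : H →* Matrix (Fin d) (Fin d) (ZMod l), σ.ker ≤ φ.ker := by
  letI : CommGroup E := { (inferInstance : Group E) with mul_comm := hc }
  letI : Module (ZMod l) (Additive E) := AddCommGroup.zmodModule (fun x => by
    have := hl x.toMul
    exact congrArg Additive.ofMul this)
  obtain ⟨d, hd, σ, hσ⟩ := aElem0 (H := H) (M := Additive E) l
    (fun g => MonoidHom.toAdditive (φ g).toMonoidHom) (fun x => by simp) (fun g h x => by simp)
  refine ⟨d, hd, σ, fun g hg => ?_⟩
  rw [MonoidHom.mem_ker] at hg ⊢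
  ext x
  exact congrArg Additive.toMul (hσ g hg (Additive.ofMul x))

/-- extension of scalars for matrix representations -/
theorem aExt {H k₀ k : Type*} [Group H] [Field k₀] [Field k] (φ : k₀ →+* k) {d : ℕ}
    (σ : H →* Matrix (Fin d) (Fin d) k₀) :
    ∃ ρ : Representation k H (Fin d → k), MonoidHom.ker ρ ≤ σ.ker := by
  refine ⟨(Matrix.toLinAlgEquiv' (R := k) (n := Fin d)).toMonoidHom.comp
    ((φ.mapMatrix (m := Fin d)).toMonoidHom.comp σ), fun g hg => ?_⟩
  rw [MonoidHom.mem_ker] at hg ⊢
  have h1 : φ.mapMatrix (σ g) = 1 :=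
    (Matrix.toLinAlgEquiv' (R := k) (n := Fin d)).injective (by rw [map_one]; exact hg)
  have h2 : Function.Injective (φ.mapMatrix (m := Fin d)) :=
    fun a b h => Matrix.map_injective φ.injective h
  exact h2 (by rw [map_one]; exact h1)

end Cfsg.Agent.AltL
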