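import Mathlib
import Cfsg.Agent.AltL.Ax1

/-!
Normal subgroups of irreducible linear groups.
-/

set_option autoImplicit false

namespace Cfsg.Agent.AltL

open scoped _root_.Classical

/-- an abelian normal subgroup is scalar, or there is a proper subgroup of small index -/
theorem aAb {k V H : Type*} [Field k] [IsAlgClosed k] [AddCommGroup V] [Module k V]
    [FiniteDimensional k V] [Nontrivial V] [Group H] [Finite H] (ρ : Representation k H V)
    (hirr : ∀ W : Submodule k V, (∀ g, ∀ v ∈ W, ρ g v ∈ W) → W = ⊥ ∨ W = ⊤)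
    (B : Subgroup H) [B.Normal] (hB : ∀ a ∈ B, ∀ b ∈ B, a * b = b * a) :
    (∀ b ∈ B, ∃ c : k, ρ b = c • (1 : Module.End k V)) ∨
      ∃ S : Subgroup H, S ≠ ⊤ ∧ S.index ≤ Module.finrank k V := by
  obtain ⟨v, hv, χ, hχ⟩ := aCommon (k := k) (V := V) (fun b : B => ρ b)
    (fun a b => by rw [← map_mul, ← map_mul, hB a a.2 b b.2])
  have hmove : ∀ (g : H) (b : B) (u : V),
      ρ b (ρ g u) = ρ g (ρ (MulAut.conjNormal g⁻¹ b : B) u) := by
    intro g b u
    rw [← Module.End.mul_apply, ← Module.End.mul_apply, ← map_mul, ← map_mul]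
    congr 2
    simp [mul_assoc]
  let S : Subgroup H :=
    { carrier := {g | ∀ b : B, χ (MulAut.conjNormal g⁻¹ b) = χ b}
      one_mem' := fun b => by simp
      mul_mem' := fun {g h} hg hh b => by
        rw [mul_inv_rev, map_mul, MulAut.mul_apply, hh, hg]
      inv_mem' := fun {g} hg b => by
        rw [← hg (MulAut.conjNormal g⁻¹⁻¹ b), ← MulAut.mul_apply, ← map_mul]
        simp }
  by_cases hS : S = ⊤
  · left
    have hW := hirr (⨅ b : B, Module.End.eigenspace (ρ b) (χ b)) (by
      intro g u hu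
      rw [Submodule.mem_iInf] at hu ⊢
      intro b
      rw [Module.End.mem_eigenspace_iff, hmove, Module.End.mem_eigenspace_iff.1 (hu _), map_smul]
      have hg : g ∈ S := hS ▸ Subgroup.mem_top g
      rw [hg b])
    rcases hW with hW | hW
    · exfalso
      apply hv
      rw [← Submodule.mem_bot k, ← hW, Submodule.mem_iInf]
      exact fun b => Module.End.mem_eigenspace_iff.2 (hχ b)
    · intro b hb
      refine ⟨χ ⟨b, hb⟩, ?_⟩
      ext u
      have hu : u ∈ ⨅ b : B, Module.End.eigenspace (ρ b) (χ b) := hW ▸ Submodule.mem_top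
      rw [Submodule.mem_iInf] at hu
      simpa using Module.End.mem_eigenspace_iff.1 (hu ⟨b, hb⟩)
  · right
    refine ⟨S, hS, ?_⟩
    have hli := aLi (k := k) (fun b : B => ρ b) (fun q : H ⧸ S => ρ q.out v)
      (fun q b => χ (MulAut.conjNormal q.out⁻¹ b)) ?_ ?_ ?_
    · haveI := Fintype.ofFinite (H ⧸ S)
      have := hli.fintype_card_le_finrank
      rwa [← Nat.card_eq_fintype_card] at this
    · intro q h
      apply hv
      have : ρ q.out⁻¹ (ρ q.out v) = v := by
        rw [← Module.End.mul_apply, ← map_mul, inv_mul_cancel, map_one]; rfl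
      rw [← this, h, map_zero]
    · intro q b
      rw [hmove, hχ, map_smul]
    · intro q q' h
      rw [← q.out_eq, ← q'.out_eq]
      refine Quotient.sound (QuotientGroup.leftRel_apply.2 ?_)
      intro b
      have := congrFun h (MulAut.conjNormal q.out b)
      simp only at this
      rw [mul_inv_rev, inv_inv, map_mul, MulAut.mul_apply, ← this, ← MulAut.mul_apply, ← map_mul]
      simp

/-- the image of a class two normal subgroup modulo the centre has at most `n ^ 2` elements -/
theorem aCard {k V H : Type*} [Field k] [AddCommGroup V] [Module k V]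
    [FiniteDimensional k V] [Nontrivial V] [Group H] [Finite H] (ρ : Representation k H V)
    (hf : Function.Injective ρ)
    (hz : ∀ z ∈ Subgroup.center H, ∃ c : k, ρ z = c • (1 : Module.End k V))
    (R : Subgroup H) (h2 : ∀ x ∈ R, ∀ y ∈ R, x * y * x⁻¹ * y⁻¹ ∈ Subgroup.center H)
    (hZ : ∀ x ∈ R, (∀ y ∈ R, y * x = x * y) → x ∈ Subgroup.center H) :
    Nat.card (R.map (QuotientGroup.mk' (Subgroup.center H))) ≤
      Module.finrank k V * Module.finrank k V := by
  have hz' : ∀ z : H, ∃ c : k, z ∈ Subgroup.center H → ρ z = c • (1 : Module.End k V) := by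
    intro z
    by_cases h : z ∈ Subgroup.center H
    · obtain ⟨c, hc⟩ := hz z h
      exact ⟨c, fun _ => hc⟩
    · exact ⟨0, fun h' => absurd h' h⟩
  choose c hc using hz'
  have hx : ∀ e : R.map (QuotientGroup.mk' (Subgroup.center H)), ∃ x ∈ R,
      QuotientGroup.mk' (Subgroup.center H) x = e := fun e => e.2
  choose x hxR hxe using hx
  have hli := aLi (k := k) (V := Module.End k V)
    (fun y : R => LinearMap.mulLeft k (ρ y) ∘ₗ LinearMap.mulRight k (ρ (y : H)⁻¹))
    (fun e => ρ (x e)) (fun e y => c (y * x e * (y : H)⁻¹ * (x e)⁻¹)) ?_ ?_ ?_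
  · haveI := Fintype.ofFinite (R.map (QuotientGroup.mk' (Subgroup.center H)))
    have := hli.fintype_card_le_finrank
    rwa [← Nat.card_eq_fintype_card, Module.finrank_linearMap] at this
  · intro e h
    have h1 : ρ (x e)⁻¹ * ρ (x e) = 1 := by rw [← map_mul, inv_mul_cancel, map_one]
    rw [h, mul_zero] at h1
    exact zero_ne_one h1
  · intro e y
    have h1 := hc _ (h2 y y.2 (x e) (hxR e))
    simp only [LinearMap.comp_apply, LinearMap.mulLeft_apply, LinearMap.mulRight_apply]
    rw [← one_mul (ρ (x e)), ← smul_mul_assoc, ← h1, one_mul, ← map_mul, ← map_mul, ← map_mul]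
    congr 1
    group
  · intro e e' h
    apply Subtype.ext
    rw [← hxe, ← hxe]
    refine QuotientGroup.eq.2 (hZ _ (R.mul_mem (R.inv_mem (hxR e)) (hxR e')) fun y hy => ?_)
    have h1 := congrFun h ⟨y⁻¹, R.inv_mem hy⟩
    simp only at h1
    have h3 := hc _ (h2 _ (R.inv_mem hy) (x e) (hxR e))
    have h4 := hc _ (h2 _ (R.inv_mem hy) (x e') (hxR e'))
    rw [h1, ← h4] at h3
    have h5 := hf h3
    calc y * ((x e)⁻¹ * x e') = (x e)⁻¹ * y * (y⁻¹ * x e * y⁻¹⁻¹ * (x e)⁻¹) * x e' := by group
      _ = (x e)⁻¹ * y * (y⁻¹ * x e' * y⁻¹⁻¹ * (x e')⁻¹) * x e' := by rw [h5]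
      _ = (x e)⁻¹ * x e' * y := by group

/-- a noncentral normal subgroup in the Frattini position contains a noncentral normal
`l`-subgroup -/
theorem aSyl {H : Type*} [Group H] [Finite H] (K : Subgroup H) [K.Normal]
    (hfr : ∀ M : Subgroup H, M ⊔ K = ⊤ → M = ⊤) (hK : ¬ K ≤ Subgroup.center H) :
    ∃ l : ℕ, l.Prime ∧ ∃ P : Subgroup H, P.Normal ∧ IsPGroup l P ∧ ¬ P ≤ Subgroup.center H := by
  have h1 : ((Subgroup.center H).subgroupOf K).index ≠ 1 := by
    intro h
    rw [Subgroup.index_eq_one, Subgroup.subgroupOf_eq_top] at h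
    exact hK h
  obtain ⟨l, hl, hd⟩ := Nat.exists_prime_and_dvd h1
  haveI := Fact.mk hl
  let P : Sylow l K := default
  refine ⟨l, hl, P.map K.subtype, ?_, P.isPGroup'.map _, fun h => ?_⟩
  · exact Subgroup.normalizer_eq_top_iff.1 (hfr _ P.normalizer_sup_eq_top)
  · have h2 : (P : Subgroup K) ≤ (Subgroup.center H).subgroupOf K :=
      fun x hx => h ⟨x, hx, rfl⟩
    exact P.not_dvd_index (hd.trans (Subgroup.index_dvd_of_le h2))

/-- a minimal noncentral normal `l`-subgroup -/
theorem aStruct {H : Type*} [Group H] [Finite H] (l : ℕ) [Fact l.Prime] (P : Subgroup H)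
    (hP : P.Normal) (hl : IsPGroup l P) (hn : ¬ P ≤ Subgroup.center H) :
    ∃ R : Subgroup H, R.Normal ∧ ¬ R ≤ Subgroup.center H ∧
      (∀ x ∈ R, ∀ y ∈ R, x * y * x⁻¹ * y⁻¹ ∈ Subgroup.center H) ∧
      ∀ x ∈ R, x ^ l ∈ Subgroup.center H := by
  have hex : ∃ n, ∃ R : Subgroup H, R.Normal ∧ IsPGroup l R ∧ ¬ R ≤ Subgroup.center H ∧
      Nat.card R = n := ⟨_, P, hP, hl, hn, rfl⟩
  obtain ⟨R, hR, hRl, hRn, hcard⟩ := Nat.find_spec hex
  have hmin : ∀ T : Subgroup H, T.Normal → T ≤ R → T ≤ Subgroup.center H ∨ T = R := by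
    intro T h1 h2
    by_cases h3 : T ≤ Subgroup.center H
    · exact Or.inl h3
    · right
      have := Nat.find_min' hex ⟨T, h1, hRl.to_le h2, h3, rfl⟩
      exact Subgroup.eq_of_le_of_card_ge h2 (hcard ▸ this)
  have hcomm : ∀ x ∈ R, ∀ y ∈ R, x * y * x⁻¹ * y⁻¹ ∈ Subgroup.center H := by
    have hne : R ≠ ⊥ := fun h => hRn (h ▸ bot_le)
    haveI : Nontrivial R := (Subgroup.nontrivial_iff_ne_bot R).2 hne
    haveI : Group.IsNilpotent R := hRl.isNilpotent
    rcases hmin ⁅R, R⁆ inferInstance (Subgroup.commutator_le_left R R) with h | h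
    · intro x hx y hy
      exact h (Subgroup.commutator_mem_commutator hx hy)
    · haveI := Subgroup.isPerfect_iff.2 h
      exact (Group.IsPerfect.not_isNilpotent R inferInstance).elim
  refine ⟨R, hR, hRn, hcomm, ?_⟩
  let T : Subgroup H :=
    { carrier := {x | x ∈ R ∧ x ^ l ∈ Subgroup.center H}
      one_mem' := ⟨R.one_mem, by simp⟩
      mul_mem' := fun {x y} hx hy => ⟨R.mul_mem hx.1 hy.1, by
        have hc : Commute (QuotientGroup.mk' (Subgroup.center H) x)
            (QuotientGroup.mk' (Subgroup.center H) y) := by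
          rw [← commutatorElement_eq_one_iff_commute, ← map_commutatorElement]
          exact (QuotientGroup.eq_one_iff _).2 (hcomm x hx.1 y hy.1)
        have h1 : QuotientGroup.mk' (Subgroup.center H) (x ^ l) = 1 :=
          (QuotientGroup.eq_one_iff _).2 hx.2
        have h2 : QuotientGroup.mk' (Subgroup.center H) (y ^ l) = 1 :=
          (QuotientGroup.eq_one_iff _).2 hy.2
        have h3 : QuotientGroup.mk' (Subgroup.center H) ((x * y) ^ l) = 1 := by
          rw [map_pow, map_mul, hc.mul_pow, ← map_pow, ← map_pow, h1, h2, one_mul]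
        exact (QuotientGroup.eq_one_iff _).1 h3⟩
      inv_mem' := fun {x} hx => ⟨R.inv_mem hx.1, by
        rw [inv_pow]; exact Subgroup.inv_mem _ hx.2⟩ }
  have hT : T.Normal := ⟨fun x hx g => ⟨hR.conj_mem x hx.1 g, by
    rw [conj_pow]
    exact Subgroup.Normal.conj_mem inferInstance _ hx.2 g⟩⟩
  rcases hmin T hT (fun x hx => hx.1) with h | h
  · exfalso
    apply hRn
    intro x hx
    obtain ⟨a, ha⟩ := hRl ⟨x, hx⟩
    have ha' : x ^ l ^ a = 1 := congrArg Subtype.val ha
    have key : ∀ j, x ^ l ^ j ∈ Subgroup.center H → x ∈ Subgroup.center H := by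
      intro j
      induction j with
      | zero => simp
      | succ j ih =>
        intro hj
        apply ih
        apply h
        refine ⟨R.pow_mem hx _, ?_⟩
        rwa [← pow_mul, ← pow_succ]
    exact key a (ha' ▸ Subgroup.one_mem _)
  · intro x hx
    rw [← h] at hx
    exact hx.2

/-- a perfect group acts nontrivially on a noncentral normal subgroup modulo the centre -/
theorem aAct {H : Type*} [Group H] (hp : Group.IsPerfect H) (R : Subgroup H)
    (h : ∀ g, ∀ x ∈ R, g * x * g⁻¹ * x⁻¹ ∈ Subgroup.center H) : R ≤ Subgroup.center H := by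
  have h1 : ⁅(⊤ : Subgroup H), R⁆ ≤ Subgroup.center H :=
    Subgroup.commutator_le.2 fun g _ x hx => h g x hx
  have h2 : ⁅⁅(⊤ : Subgroup H), R⁆, (⊤ : Subgroup H)⁆ = ⊥ := by
    rw [Subgroup.commutator_eq_bot_iff_le_centralizer, Subgroup.coe_top, Subgroup.centralizer_univ]
    exact h1
  have h3 := Subgroup.commutator_commutator_eq_bot_of_rotate (H₁ := ⊤) (H₂ := ⊤) (H₃ := R) h2
    (by rw [Subgroup.commutator_comm R]; exact h2)
  rw [← commutator_def, hp.commutator_eq_top, Subgroup.commutator_comm,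
    Subgroup.commutator_eq_bot_iff_le_centralizer, Subgroup.coe_top, Subgroup.centralizer_univ] at h3
  exact h3

end Cfsg.Agent.AltL
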