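import Mathlib
import Cfsg.Agent.AltL.Ax2

/-!
Reduction of the degree bound for alternating sections to perfect central extensions.
-/

set_option autoImplicit false

namespace Cfsg.Agent.AltL

open scoped _root_.Classical MatrixGroups

universe u

/-- the statement proved by induction on the dimension -/
def ACl (r n : ℕ) : Prop := ∀ (k : Type) [Field k] [IsAlgClosed k] (p : ℕ) [Fact p.Prime]
  [CharP k p] (V : Type) [AddCommGroup V] [Module k V] [FiniteDimensional k V],
  Module.finrank k V = n → ∀ (H : Type u) [Group H] [Finite H]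
  (π : H →* alternatingGroup (Fin r)), Function.Surjective π →
  ∀ ρ : Representation k H V, MonoidHom.ker ρ ≤ π.ker → bd p r ≤ n

theorem aBdLe (p r : ℕ) : bd p r ≤ r - 1 := Nat.sub_le _ _

theorem aBdGe (p r : ℕ) : r - 2 ≤ bd p r := by
  unfold bd
  split_ifs <;> omega

theorem aNC (r : ℕ) (hr : 9 ≤ r) : ¬ ∀ a b : alternatingGroup (Fin r), a * b = b * a := by
  intro h
  haveI : IsSimpleGroup (alternatingGroup (Fin r)) := alternatingGroup.isSimpleGroup (by
    simp; omega)
  letI : CommGroup (alternatingGroup (Fin r)) := { (inferInstance : Group _) with mul_comm := h }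
  have h1 := IsSimpleGroup.prime_card (α := alternatingGroup (Fin r))
  have h2 := aCardAlt r hr
  have h3 : 12 ∣ r.factorial := (by decide : 12 ∣ Nat.factorial 4).trans
    (Nat.factorial_dvd_factorial (by omega))
  have h4 : 6 ∣ Nat.card (alternatingGroup (Fin r)) := by omega
  have h5 := (Nat.prime_dvd_prime_iff_eq Nat.prime_two h1).1 (Dvd.dvd.trans (by decide) h4)
  omega

/-- the minimal faithful case -/
theorem aCore (hc : TC.{u}) {r n : ℕ} (hr : 9 ≤ r) (ih : ∀ m < n, ACl.{u} r m)
    (k : Type) [Field k] [IsAlgClosed k] (p : ℕ) [Fact p.Prime]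
    [CharP k p] (V : Type) [AddCommGroup V] [Module k V] [FiniteDimensional k V]
    (hV : Module.finrank k V = n) (H : Type u) [Group H] [Finite H]
    (π : H →* alternatingGroup (Fin r)) (hπ : Function.Surjective π)
    (ρ : Representation k H V) (hf : Function.Injective ρ)
    (hmin : ∀ M : Subgroup H, M.map π = ⊤ → M = ⊤) : bd p r ≤ n := by
  haveI : IsSimpleGroup (alternatingGroup (Fin r)) := alternatingGroup.isSimpleGroup (by
    simp; omega)
  have hN : ∀ N : Subgroup H, N.Normal → N ≤ π.ker ∨ N = ⊤ := by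
    intro N hN
    rcases (hN.map π hπ).eq_bot_or_eq_top with h | h
    · exact Or.inl ((Subgroup.map_eq_bot_iff N).1 h)
    · exact Or.inr (hmin N h)
  have hnc : ¬ ∀ a b : H, a * b = b * a := by
    intro h
    apply aNC r hr
    intro a b
    obtain ⟨a, rfl⟩ := hπ a
    obtain ⟨b, rfl⟩ := hπ b
    rw [← map_mul, h, map_mul]
  have hperf : Group.IsPerfect H := by
    rcases hN (commutator H) inferInstance with h | h
    · exfalso
      apply aNC r hr
      intro a b
      obtain ⟨a, rfl⟩ := hπ a
      obtain ⟨b, rfl⟩ := hπ b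
      rw [← commutatorElement_eq_one_iff_mul_comm, ← map_commutatorElement]
      exact h (Subgroup.commutator_mem_commutator (Subgroup.mem_top a) (Subgroup.mem_top b))
    · exact ⟨h⟩
  have hne : ∃ g, ρ g ≠ 1 := by
    by_contra h
    push Not at h
    exact hnc fun a b => hf (by rw [h, h])
  haveI : Nontrivial V := by
    by_contra h
    rw [not_nontrivial_iff_subsingleton] at h
    obtain ⟨g, hg⟩ := hne
    exact hg (LinearMap.ext fun v => Subsingleton.elim _ _)
  -- reducible case
  by_cases hirr : ∀ W : Submodule k V, (∀ g, ∀ v ∈ W, ρ g v ∈ W) → W = ⊥ ∨ W = ⊤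
  swap
  · push Not at hirr
    obtain ⟨W, hW, hb, ht⟩ := hirr
    have hW' : ∀ g, W ≤ W.comap (ρ g) := fun g v hv => hW g v hv
    have hlt1 : Module.finrank k W < n := hV ▸ Submodule.finrank_lt ht
    have hlt2 : Module.finrank k (V ⧸ W) < n := by
      have h1 := W.finrank_quotient_add_finrank
      have h2 : Module.finrank k W ≠ 0 := fun h => hb (Submodule.finrank_eq_zero.1 h)
      omega
    rcases hN (MonoidHom.ker (ρ.subrepresentation W hW')) inferInstance with h1 | h1
    · exact (ih _ hlt1 k p W rfl H π hπ _ h1).trans hlt1.le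
    rcases hN (MonoidHom.ker (ρ.quotient W hW')) inferInstance with h2 | h2
    · exact (ih _ hlt2 k p (V ⧸ W) rfl H π hπ _ h2).trans hlt2.le
    exfalso
    have e1 : ∀ g, ∀ w ∈ W, ρ g w = w := by
      intro g w hw
      have hg : g ∈ MonoidHom.ker (ρ.subrepresentation W hW') := h1 ▸ Subgroup.mem_top g
      exact congrArg Subtype.val (LinearMap.congr_fun (MonoidHom.mem_ker.1 hg) ⟨w, hw⟩)
    have e2 : ∀ g v, ρ g v - v ∈ W := by
      intro g v
      have hg : g ∈ MonoidHom.ker (ρ.quotient W hW') := h2 ▸ Subgroup.mem_top g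
      have := LinearMap.congr_fun (MonoidHom.mem_ker.1 hg) (W.mkQ v)
      exact (Submodule.Quotient.eq W).1 this
    have e3 : ∀ g h v, ρ g (ρ h v) = ρ g v + ρ h v - v := by
      intro g h v
      have := e1 g _ (e2 h v)
      rw [map_sub] at this
      rw [sub_eq_iff_eq_add.1 this]
      abel
    refine hnc fun a b => hf ?_
    ext v
    rw [map_mul, map_mul, Module.End.mul_apply, Module.End.mul_apply, e3, e3, add_comm]
  by_cases hK : π.ker ≤ Subgroup.center H
  · exact hV ▸ hc k p V r hr H π hπ hK hperf ρ hne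
  by_cases hS : ∃ S : Subgroup H, S ≠ ⊤ ∧ S.index ≤ Module.finrank k V
  · obtain ⟨S, hS, hi⟩ := hS
    have := aIdx hr π hπ hN S hS
    have := aBdLe p r
    omega
  have hab : ∀ B : Subgroup H, B.Normal → (∀ a ∈ B, ∀ b ∈ B, a * b = b * a) →
      ∀ b ∈ B, ∃ c : k, ρ b = c • (1 : Module.End k V) := fun B hB h =>
    (aAb ρ hirr B h).resolve_right hS
  obtain ⟨l, hl, P, hP, hPl, hPn⟩ := aSyl π.ker (fun M hM => hmin M (by
    have := congrArg (Subgroup.map π) hM
    rwa [Subgroup.map_sup, (Subgroup.map_eq_bot_iff _).2 le_rfl, sup_bot_eq,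
      Subgroup.map_top_of_surjective π hπ] at this)) hK
  haveI := Fact.mk hl
  obtain ⟨R, hR, hRn, hR2, hRl⟩ := aStruct l P hP hPl hPn
  have hcard := aCard ρ hf (hab _ inferInstance fun a ha b _ =>
    (Subgroup.mem_center_iff.1 ha b).symm) R hR2 (by
      intro x hx hxc
      obtain ⟨c, hc'⟩ := hab (R ⊓ Subgroup.centralizer R) inferInstance
        (fun a ha b hb => hb.2 a ha.1) x ⟨hx, hxc⟩
      rw [Subgroup.mem_center_iff]
      intro g
      apply hf
      rw [map_mul, map_mul, hc', mul_smul_comm, smul_mul_assoc, mul_one, one_mul])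
  haveI hE : (R.map (QuotientGroup.mk' (Subgroup.center H))).Normal :=
    hR.map _ (QuotientGroup.mk'_surjective _)
  obtain ⟨d, hd, σ, hσ⟩ := aElem (H := H) (E := R.map (QuotientGroup.mk' (Subgroup.center H))) l
    (by
      rintro ⟨_, x, hx, rfl⟩ ⟨_, y, hy, rfl⟩
      apply Subtype.ext
      change _ * _ = _ * _
      rw [← commutatorElement_eq_one_iff_mul_comm, ← map_commutatorElement]
      exact (QuotientGroup.eq_one_iff _).2 (hR2 x hx y hy))
    (by
      rintro ⟨_, x, hx, rfl⟩
      apply Subtype.ext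
      change _ ^ l = 1
      rw [← map_pow]
      exact (QuotientGroup.eq_one_iff _).2 (hRl x hx))
    (MulAut.conjNormal.comp (QuotientGroup.mk' (Subgroup.center H)))
  have hσK : σ.ker ≤ π.ker := by
    rcases hN σ.ker inferInstance with h | h
    · exact h
    · exfalso
      apply hRn
      apply aAct hperf R
      intro g x hx
      have hg := MonoidHom.mem_ker.1 (hσ (h ▸ Subgroup.mem_top g))
      have h1 := congrArg Subtype.val (MulEquiv.congr_fun hg ⟨_, x, hx, rfl⟩)
      simp only [MonoidHom.comp_apply, MulAut.conjNormal_apply, MulAut.one_apply] at h1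
      have h2 : QuotientGroup.mk' (Subgroup.center H) (g * x * g⁻¹ * x⁻¹) = 1 := by
        rw [map_mul, map_mul, map_mul, map_inv, map_inv, h1, mul_inv_cancel]
      exact (QuotientGroup.eq_one_iff _).1 h2
  by_cases hdn : d < n
  · obtain ⟨ρ', hρ'⟩ := aExt (algebraMap (ZMod l) (AlgebraicClosure (ZMod l))) σ
    have h1 := ih d hdn (AlgebraicClosure (ZMod l)) l (Fin d → AlgebraicClosure (ZMod l))
      (by simp) H π hπ ρ' (hρ'.trans hσK)
    have := aBdLe p r
    have := aBdGe l r
    omega
  · exfalso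
    push Not at hdn
    rw [hd, hV] at hcard
    have h2 : 2 ^ d ≤ l ^ d := Nat.pow_le_pow_left hl.two_le d
    have h3 : 2 ^ n ≤ 2 ^ d := Nat.pow_le_pow_right (by norm_num) hdn
    have h4 : n ≤ 4 := by
      by_contra h
      push Not at h
      have key : ∀ m, 5 ≤ m → m * m < 2 ^ m := by
        intro m hm
        induction m, hm using Nat.le_induction with
        | base => norm_num
        | succ m hm ih => rw [pow_succ]; nlinarith
      have := key n h
      omega
    have h5 : l ^ d ≤ 16 := hcard.trans (by nlinarith)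
    have h6 : d ≤ 4 := by
      by_contra h
      push Not at h
      have : 2 ^ 5 ≤ 2 ^ d := Nat.pow_le_pow_right (by norm_num) h
      omega
    have h7 : Nat.card (Matrix (Fin d) (Fin d) (ZMod l)) ≤ 16 ^ 4 := by
      have : Nat.card (Matrix (Fin d) (Fin d) (ZMod l)) = (l ^ d) ^ d := by
        change Nat.card (Fin d → Fin d → ZMod l) = _
        simp [Nat.card_fun]
      rw [this]
      exact (Nat.pow_le_pow_left h5 d).trans (Nat.pow_le_pow_right (by norm_num) h6)
    have h8 : σ.ker.index ≤ Nat.card (Matrix (Fin d) (Fin d) (ZMod l)) := by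
      refine Nat.card_le_card_of_injective (QuotientGroup.lift σ.ker σ le_rfl) ?_
      intro a b hab
      induction a using QuotientGroup.induction_on with | H a => ?_
      induction b using QuotientGroup.induction_on with | H b => ?_
      refine QuotientGroup.eq.2 (MonoidHom.mem_ker.2 ?_)
      have hab' : σ a = σ b := hab
      rw [map_mul, ← hab', ← map_mul, inv_mul_cancel, map_one]
    have h9 : π.ker.index ≤ σ.ker.index :=
      Nat.le_of_dvd (Nat.pos_of_ne_zero Subgroup.index_ne_zero_of_finite)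
        (Subgroup.index_dvd_of_le hσK)
    rw [aKerIndex π hπ] at h9
    have h10 := aCardAlt r hr
    have h11 : Nat.factorial 9 ≤ r.factorial := Nat.factorial_le hr
    have h12 : Nat.factorial 9 = 362880 := by decide
    omega

theorem aAll (hc : TC.{u}) {r : ℕ} (hr : 9 ≤ r) (n : ℕ) : ACl.{u} r n := by
  induction n using Nat.strong_induction_on with
  | _ n ih =>
  intro k _ _ p _ _ V _ _ _ hV
  suffices h : ∀ m, ∀ (H : Type u) [Group H] [Finite H], Nat.card H = m →
      ∀ (π : H →* alternatingGroup (Fin r)), Function.Surjective π →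
      ∀ ρ : Representation k H V, MonoidHom.ker ρ ≤ π.ker → bd p r ≤ n from
    fun H _ _ π hπ ρ hρ => h _ H rfl π hπ ρ hρ
  intro m
  induction m using Nat.strong_induction_on with
  | _ m ihm =>
  intro H _ _ hm π hπ ρ hρ
  by_cases hmin : ∀ M : Subgroup H, M.map π = ⊤ → M = ⊤
  swap
  · push Not at hmin
    obtain ⟨M, hM, hMt⟩ := hmin
    have hlt : Nat.card M < m := by
      rw [← hm]
      exact lt_of_le_of_ne M.card_le_card_group fun h => hMt (Subgroup.eq_top_of_card_eq M h)
    refine ihm _ hlt M rfl (π.comp M.subtype) ?_ (MonoidHom.comp ρ M.subtype) fun g hg => hρ hg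
    intro a
    obtain ⟨x, hx, rfl⟩ : a ∈ M.map π := hM ▸ Subgroup.mem_top a
    exact ⟨⟨x, hx⟩, rfl⟩
  by_cases hker : MonoidHom.ker ρ = ⊥
  · refine aCore hc hr ih k p V hV H π hπ ρ (fun a b hab => ?_) hmin
    have : a⁻¹ * b ∈ MonoidHom.ker ρ := by
      rw [MonoidHom.mem_ker, map_mul, ← hab, ← map_mul, inv_mul_cancel, map_one]
    rw [hker, Subgroup.mem_bot] at this
    exact inv_mul_eq_one.1 this
  · have hlt : Nat.card (H ⧸ MonoidHom.ker ρ) < m := by
      rw [← hm, Subgroup.card_eq_card_quotient_mul_card_subgroup (MonoidHom.ker ρ)]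
      have h1 : 1 < Nat.card (MonoidHom.ker ρ) := (Subgroup.one_lt_card_iff_ne_bot _).2 hker
      have h2 : 0 < Nat.card (H ⧸ MonoidHom.ker ρ) := Nat.card_pos
      nlinarith
    refine ihm _ hlt (H ⧸ MonoidHom.ker ρ) rfl (QuotientGroup.lift _ π hρ) ?_
      (QuotientGroup.lift _ ρ le_rfl) ?_
    · intro a
      obtain ⟨x, rfl⟩ := hπ a
      exact ⟨x, rfl⟩
    · intro g hg
      induction g using QuotientGroup.induction_on with | H g => ?_
      exact hρ hg

theorem main (hc : TC.{u}) {F : Type u} [Field F] [Fintype F] (p : ℕ) [Fact p.Prime] [CharP F p]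
    (n : ℕ) (r : ℕ) (H : Subgroup (GL (Fin n) F)) (K : Subgroup ↥H) [K.Normal]
    (h : Nonempty (↥H ⧸ K ≃* ↥(alternatingGroup (Fin r)))) (hr : 9 ≤ r) :
    r - 1 - (if p ∣ r then 1 else 0) ≤ n := by
  obtain ⟨e⟩ := h
  letI : Algebra (ZMod p) F := ZMod.algebra F p
  let φ : F →ₐ[ZMod p] AlgebraicClosure (ZMod p) := IsAlgClosed.lift
  obtain ⟨ρ, hρ⟩ := aExt φ.toRingHom ((Units.coeHom (Matrix (Fin n) (Fin n) F)).comp H.subtype)
  refine aAll hc hr n (AlgebraicClosure (ZMod p)) p (Fin n → AlgebraicClosure (ZMod p)) (by simp)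
    H (e.toMonoidHom.comp (QuotientGroup.mk' K))
    (e.surjective.comp (QuotientGroup.mk'_surjective K)) ρ (hρ.trans fun g hg => ?_)
  have h1 : g = 1 := Subtype.ext (Units.ext (MonoidHom.mem_ker.1 hg))
  rw [h1]
  exact Subgroup.one_mem _

end Cfsg.Agent.AltL
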