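import Mathlib

/-!
Weight spaces of normal subgroups of linear groups with an alternating quotient.
-/

set_option autoImplicit false

namespace Cfsg.Agent.AltL

open Module Polynomial

universe u

variable {k : Type} [Field k] {V : Type} [AddCommGroup V] [Module k V] [FiniteDimensional k V]
  {H : Type u} [Group H] [Finite H]

theorem a1_card {ι : Type*} {W : ι → Submodule k V} (h : iSupIndep W) :
    Finite {i // W i ≠ ⊥} ∧ Nat.card {i // W i ≠ ⊥} ≤ finrank k V := by
  have := h.fintypeNeBotOfFiniteDimensional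
  exact ⟨inferInstance, Nat.card_eq_fintype_card (α := {i // W i ≠ ⊥}) ▸ h.subtype_ne_bot_le_finrank⟩

theorem a_ab [IsAlgClosed k] (ρ : Representation k H V) (hf : Function.Injective ρ) {r : ℕ} (hr : 9 ≤ r)
    (π : H →* alternatingGroup (Fin r)) (hπ : Function.Surjective π)
    (hmin : ∀ N : Subgroup H, N.Normal → N ≤ π.ker ∨ N = ⊤) (R : Subgroup H) [hR : R.Normal]
    (hc : ∀ a ∈ R, ∀ b ∈ R, a * b = b * a) (ho : (Nat.card R : k) ≠ 0) (hz : ¬ R ≤ Subgroup.center H) :
    r ≤ finrank k V := by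
  let f : R → End k V := fun a => ρ a
  have hss : ∀ a μ, (f a).maxGenEigenspace μ = (f a).eigenspace μ := fun a μ =>
    (End.isSemisimple_of_squarefree_aeval_eq_zero (p := X ^ Nat.card R - C 1)
      (separable_X_pow_sub_C 1 ho one_ne_zero).squarefree (by
        simp only [f, map_sub, map_pow, aeval_X, map_one]
        rw [← map_pow, ← Subgroup.coe_pow, pow_card_eq_one', Subgroup.coe_one, map_one, sub_self])
      ).isFinitelySemisimple.maxGenEigenspace_eq_eigenspace μ
  have hcm : ∀ a b, Commute (f a) (f b) := fun a b => by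
    change ρ a * ρ b = ρ b * ρ a
    rw [← map_mul, ← map_mul, hc a a.2 b b.2]
  let W : (R → k) → Submodule k V := fun χ => ⨅ a, (f a).maxGenEigenspace (χ a)
  have hW : ∀ χ v, v ∈ W χ ↔ ∀ a : R, ρ a v = χ a • v := fun χ v => by
    simp only [W, hss, Submodule.mem_iInf, End.mem_eigenspace_iff, f]
  have hind : iSupIndep W := End.independent_iInf_maxGenEigenspace_of_forall_mapsTo f
    fun i j φ => End.mapsTo_maxGenEigenspace_of_comm (hcm j i) φ
  have htop : ⨆ χ, W χ = ⊤ := End.iSup_iInf_maxGenEigenspace_eq_top_of_iSup_maxGenEigenspace_eq_top_of_commute f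
    (fun i j _ => hcm i j) fun i => End.iSup_maxGenEigenspace_eq_top _
  obtain ⟨hfin, hcard⟩ := a1_card hind
  let cj : H → R → R := fun h a => ⟨h⁻¹ * a * h, by simpa using hR.conj_mem _ a.2 h⁻¹⟩
  have hne : ∀ (h : H) χ, W χ ≠ ⊥ → W (fun a => χ (cj h a)) ≠ ⊥ := fun h χ h1 => by
    obtain ⟨v, hv, h0⟩ := (Submodule.ne_bot_iff _).1 h1
    refine (Submodule.ne_bot_iff _).2 ⟨ρ h v, (hW _ _).2 fun a => ?_, fun e => h0 ?_⟩
    · rw [← map_smul, ← (hW _ _).1 hv (cj h a), ← End.mul_apply, ← End.mul_apply, ← map_mul, ← map_mul]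
      simp [cj, mul_assoc]
    · have := congrArg (ρ h⁻¹) e
      rwa [← End.mul_apply, ← map_mul, inv_mul_cancel, map_one, map_zero] at this
  let _ : MulAction H {χ // W χ ≠ ⊥} :=
    { smul := fun h χ => ⟨fun a => χ.1 (cj h a), hne h _ χ.2⟩
      one_smul := fun χ => Subtype.ext (funext fun a => congrArg χ.1 (Subtype.ext (by simp [cj])))
      mul_smul := fun g h χ => Subtype.ext (funext fun a => congrArg χ.1 (Subtype.ext (by simp [cj, mul_assoc]))) }
  rcases hmin (MulAction.toPermHom H {χ // W χ ≠ ⊥}).ker inferInstance with h | h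
  · have h1 := Subgroup.index_dvd_of_le h
    rw [Subgroup.index_ker, Subgroup.index_ker, MonoidHom.range_eq_top.2 hπ, Subgroup.card_top] at h1
    have h2 := h1.trans (Subgroup.card_subgroup_dvd_card _)
    rw [Nat.card_perm] at h2
    have : Nontrivial (Fin r) := Fin.nontrivial_iff_two_le.2 (by omega)
    have h3 := two_mul_nat_card_alternatingGroup (α := Fin r)
    rw [Nat.card_perm, Nat.card_eq_fintype_card (α := Fin r), Fintype.card_fin] at h3
    have h4 := Nat.le_of_dvd (Nat.factorial_pos _) h2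
    refine le_trans ?_ hcard
    by_contra h5
    obtain ⟨s, rfl⟩ : ∃ s, r = s + 1 := ⟨r - 1, by omega⟩
    have h6 := Nat.factorial_le (show Nat.card {χ // W χ ≠ ⊥} ≤ s by omega)
    have h7 := Nat.factorial_pos s
    rw [Nat.factorial_succ] at h3
    nlinarith
  · refine absurd (fun a ha => Subgroup.mem_center_iff.2 fun g => ?_) hz
    have h1 : ρ (g⁻¹ * a * g) = ρ a := by
      ext v
      have hv : v ∈ ⨆ χ, W χ := htop ▸ Submodule.mem_top
      induction hv using Submodule.iSup_induction' with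
      | mem χ v hv =>
        by_cases h0 : W χ = ⊥
        · rw [h0, Submodule.mem_bot] at hv
          simp [hv]
        · have h2 : g ∈ (MulAction.toPermHom H {χ // W χ ≠ ⊥}).ker := h ▸ Subgroup.mem_top g
          have h3 : χ (cj g ⟨a, ha⟩) = χ ⟨a, ha⟩ :=
            congrFun (congrArg Subtype.val (Equiv.congr_fun h2 ⟨χ, h0⟩)) ⟨a, ha⟩
          exact ((hW _ _).1 hv (cj g ⟨a, ha⟩)).trans (h3 ▸ ((hW _ _).1 hv ⟨a, ha⟩).symm)
      | zero => simp
      | add x y _ _ hx hy => rw [map_add, map_add, hx, hy]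
    have h2 := hf h1
    calc g * a = g * (g⁻¹ * a * g) := by rw [h2]
      _ = a * g := by group

omit [Finite H] in
theorem a1_eig {ι J : Type*} (f : ι → End k V) (hco : ∀ x y, Commute (f x) (f y)) (χ : J → ι → k)
    (hχ : Function.Injective χ) (v : J → V) (h0 : ∀ j, v j ≠ 0) (hv : ∀ j x, f x (v j) = χ j x • v j) :
    Nat.card J ≤ finrank k V := by
  have hind := End.independent_iInf_maxGenEigenspace_of_forall_mapsTo f
    fun i j φ => End.mapsTo_maxGenEigenspace_of_comm (hco j i) φ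
  obtain ⟨hfin, hcard⟩ := a1_card hind
  refine le_trans (Nat.card_le_card_of_injective
    (fun j => (⟨χ j, (Submodule.ne_bot_iff _).2 ⟨v j, (Submodule.mem_iInf _).2 fun x =>
      End.eigenspace_le_maxGenEigenspace (End.mem_eigenspace_iff.2 (hv j x)), h0 j⟩⟩ :
        {c : ι → k // (⨅ x, (f x).maxGenEigenspace (c x)) ≠ ⊥}))
    fun q q' e => hχ (congrArg Subtype.val e)) hcard

omit [Finite H] in
theorem a_idx [Nontrivial V] (ρ : Representation k H V) (hf : Function.Injective ρ) (R Z : Subgroup H)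
    (hs : ∀ z ∈ Z, ∃ c : k, ρ z = c • 1) (hcm : ∀ a ∈ R, ∀ b ∈ R, a * b * a⁻¹ * b⁻¹ ∈ Z)
    (hZ : ∀ a ∈ R, (∀ b ∈ R, a * b = b * a) → a ∈ Z) : Z.relIndex R ≤ finrank k V ^ 2 := by
  obtain ⟨f, hfa⟩ : ∃ f : R → End k (End k V), ∀ x T, f x T = ρ x * (T * ρ (x : H)⁻¹) :=
    ⟨fun x => LinearMap.mulLeft k (ρ x) ∘ₗ LinearMap.mulRight k (ρ (x : H)⁻¹), fun x T => by
      rw [LinearMap.comp_apply, LinearMap.mulRight_apply, LinearMap.mulLeft_apply]⟩
  have hco : ∀ x y, Commute (f x) (f y) := fun x y => by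
    refine LinearMap.ext fun T => ?_
    obtain ⟨c, hc⟩ := hs _ (hcm x x.2 y y.2)
    have h1 : ∀ T, ρ (x * y * (x : H)⁻¹ * (y : H)⁻¹) * T = T * ρ (x * y * (x : H)⁻¹ * (y : H)⁻¹) := fun T => by
      rw [hc, smul_mul_assoc, mul_smul_comm, one_mul, mul_one]
    have h2 : ρ x * ρ y = ρ (x * y * (x : H)⁻¹ * (y : H)⁻¹) * (ρ y * ρ x) := by
      rw [← map_mul, ← map_mul, ← map_mul]; congr 1; group
    have h3 : ρ (x : H)⁻¹ * ρ (y : H)⁻¹ = (ρ (y : H)⁻¹ * ρ (x : H)⁻¹) * ρ (x * y * (x : H)⁻¹ * (y : H)⁻¹) := by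
      rw [← map_mul, ← map_mul, ← map_mul]; congr 1; group
    rw [End.mul_apply, End.mul_apply, hfa, hfa, hfa, hfa]
    calc _ = (ρ x * ρ y) * (T * (ρ (y : H)⁻¹ * ρ (x : H)⁻¹)) := by simp only [mul_assoc]
      _ = (ρ y * ρ x) * (T * (ρ (x : H)⁻¹ * ρ (y : H)⁻¹)) := by
        rw [h2, h3, mul_assoc, h1]; simp only [mul_assoc]
      _ = _ := by simp only [mul_assoc]
  choose χ hχ using fun a x : R => hs _ (hcm x x.2 a a.2)
  have key := a1_eig f hco (fun q : R ⧸ Z.subgroupOf R => χ q.out) (fun q q' e => by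
      rw [← q.out_eq', ← q'.out_eq', QuotientGroup.eq]
      refine hZ _ (q.out⁻¹ * q'.out).2 fun x hx => ?_
      have h1 : χ q.out ⟨x⁻¹, inv_mem hx⟩ = χ q'.out ⟨x⁻¹, inv_mem hx⟩ := congrFun e _
      have h3 := hχ q'.out ⟨x⁻¹, inv_mem hx⟩
      rw [← h1] at h3
      have h2 := hf ((hχ q.out ⟨x⁻¹, inv_mem hx⟩).trans h3.symm)
      change (q.out : H)⁻¹ * q'.out * x = x * ((q.out : H)⁻¹ * q'.out)
      simp only [inv_inv] at h2
      generalize (q.out : H) = a at h2 ⊢
      generalize (q'.out : H) = b at h2 ⊢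
      calc a⁻¹ * b * x = a⁻¹ * x * (x⁻¹ * b * x * b⁻¹) * b := by group
        _ = _ := by rw [← h2]; group) (fun q => ρ q.out) (fun q e => by
      have : ρ (q.out : H) * ρ (q.out : H)⁻¹ = 0 := by rw [e, zero_mul]
      rw [← map_mul, mul_inv_cancel, map_one] at this
      exact one_ne_zero this) (fun q x => by
      rw [hfa, ← smul_one_mul, ← hχ, ← map_mul, ← map_mul, ← map_mul]; congr 1; group)
  rwa [Module.finrank_linearMap, ← sq] at key

end Cfsg.Agent.AltL
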