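import Mathlib
import Cfsg.Agent.AltL.Def

/-!
The action on an elementary abelian section.
-/

set_option autoImplicit false

namespace Cfsg.Agent.AltL

open Module

universe u

variable {H : Type u} [Group H] {r : ℕ}

theorem a3_rep (hr : 9 ≤ r) (π : H →* alternatingGroup (Fin r)) (hπ : Function.Surjective π) {l : ℕ}
    [hl : Fact l.Prime] {M : Type u} [AddCommGroup M] [Module (ZMod l) M] [Finite M] (τ : H →* End (ZMod l) M)
    (hk : ∀ h, τ h = 1 → π h = 1) {n : ℕ} (hn : Nat.card M ≤ n ^ 2)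
    (IH : ∀ (l : ℕ) [Fact l.Prime] (d : ℕ), d < n → ∀ σ : Representation (AlgebraicClosure (ZMod l)) H
      (Fin d → AlgebraicClosure (ZMod l)), (∀ h, σ h = 1 → π h = 1) → bd l r ≤ d) : r - 1 ≤ n := by
  have hc : Nat.card M = l ^ finrank (ZMod l) M := by
    rw [Module.natCard_eq_pow_finrank (K := ZMod l), Nat.card_zmod]
  have b := Module.finBasis (ZMod l) M
  generalize finrank (ZMod l) M = d at hc b
  let μ : H →* Matrix (Fin d) (Fin d) (ZMod l) := (LinearMap.toMatrixAlgEquiv b).toMulEquiv.toMonoidHom.comp τ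
  have hμ : ∀ h, μ h = 1 → π h = 1 := fun h e =>
    hk h ((LinearMap.toMatrixAlgEquiv b).injective (e.trans (map_one _).symm))
  by_cases hd : d < n
  · have h1 := IH l d hd (Matrix.toLinAlgEquiv'.toMulEquiv.toMonoidHom.comp
      ((algebraMap (ZMod l) (AlgebraicClosure (ZMod l))).mapMatrix.toMonoidHom.comp μ)) fun h e => hμ h (by
        have h2 : (algebraMap (ZMod l) (AlgebraicClosure (ZMod l))).mapMatrix (μ h) = 1 :=
          Matrix.toLinAlgEquiv'.injective (e.trans (map_one _).symm)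
        exact Matrix.map_injective (algebraMap (ZMod l) (AlgebraicClosure (ZMod l))).injective
          (h2.trans (map_one (algebraMap (ZMod l) (AlgebraicClosure (ZMod l))).mapMatrix).symm))
    unfold bd at h1
    split_ifs at h1 <;> omega
  exfalso
  have h1 : l ^ d ≤ d ^ 2 := hc ▸ hn.trans (Nat.pow_le_pow_left (by omega) 2)
  have h2 : d ≤ 4 := by
    by_contra h
    have h3 : ∀ m, 5 ≤ m → m ^ 2 < 2 ^ m := fun m hm => by
      induction m, hm using Nat.le_induction with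
      | base => norm_num
      | succ m hm ih => rw [pow_succ 2 m]; nlinarith
    have := Nat.pow_le_pow_left hl.out.two_le d
    have := h3 d (by omega)
    omega
  have h3 : Nat.card (alternatingGroup (Fin r)) ≤ Nat.card (Matrix (Fin d) (Fin d) (ZMod l)) :=
    Nat.card_le_card_of_injective (fun a => μ (Function.surjInv hπ a)) fun a a' e => by
      have := hμ ((Function.surjInv hπ a)⁻¹ * Function.surjInv hπ a') (by
        rw [map_mul, ← show μ _ = μ _ from e, ← map_mul, inv_mul_cancel, map_one])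
      rwa [map_mul, map_inv, Function.surjInv_eq hπ, Function.surjInv_eq hπ, inv_mul_eq_one] at this
  have h4 : Nat.card (Matrix (Fin d) (Fin d) (ZMod l)) = (l ^ d) ^ d := by
    change Nat.card (Fin d → Fin d → ZMod l) = _
    simp [Nat.card_fun]
  have h5 : (l ^ d) ^ d ≤ 16 ^ 4 :=
    (Nat.pow_le_pow_left (h1.trans (Nat.pow_le_pow_left h2 2)) d).trans (Nat.pow_le_pow_right (by norm_num) h2)
  have : Nontrivial (Fin r) := Fin.nontrivial_iff_two_le.2 (by omega)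
  have h6 := two_mul_nat_card_alternatingGroup (α := Fin r)
  rw [Nat.card_perm, Nat.card_eq_fintype_card (α := Fin r), Fintype.card_fin] at h6
  have h7 := Nat.factorial_le hr
  rw [show Nat.factorial 9 = 362880 by rfl] at h7
  omega

theorem a3_add {l : ℕ} {M : Type u} [AddCommGroup M] [Module (ZMod l) M] (f : H → M →+ M) (h1 : ∀ x, f 1 x = x)
    (h2 : ∀ g h x, f (g * h) x = f g (f h x)) :
    ∃ τ : H →* End (ZMod l) M, (∀ h x, τ h x = f h x) ∧ ∀ h, τ h = 1 → ∀ x, f h x = x :=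
  ⟨⟨⟨fun h => (f h).toZModLinearMap l, LinearMap.ext h1⟩, fun g h => LinearMap.ext (h2 g h)⟩, fun _ _ => rfl,
    fun _ e x => LinearMap.congr_fun e x⟩

theorem a3_fin (hr : 9 ≤ r) (π : H →* alternatingGroup (Fin r)) (hπ : Function.Surjective π)
    (hmin : ∀ N : Subgroup H, N.Normal → N ≤ π.ker ∨ N = ⊤) {l : ℕ} [Fact l.Prime] {M : Type u} [AddCommGroup M]
    [Finite M] (hp : ∀ x : M, l • x = 0) (f : H → M →+ M) (h1 : ∀ x, f 1 x = x)
    (h2 : ∀ g h x, f (g * h) x = f g (f h x)) (hnt : ∃ g x, f g x ≠ x) {n : ℕ} (hn : Nat.card M ≤ n ^ 2)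
    (IH : ∀ (l : ℕ) [Fact l.Prime] (d : ℕ), d < n → ∀ σ : Representation (AlgebraicClosure (ZMod l)) H
      (Fin d → AlgebraicClosure (ZMod l)), (∀ h, σ h = 1 → π h = 1) → bd l r ≤ d) : r - 1 ≤ n := by
  obtain ⟨_⟩ : Nonempty (Module (ZMod l) M) := ⟨AddCommGroup.zmodModule hp⟩
  obtain ⟨τ, -, hτ⟩ := a3_add (l := l) f h1 h2
  refine a3_rep hr π hπ τ (fun h e => (hmin τ.ker inferInstance).resolve_right (fun ht => ?_) e) hn IH
  obtain ⟨g, x, hx⟩ := hnt
  exact hx (hτ g (ht ▸ Subgroup.mem_top g : g ∈ τ.ker) x)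

theorem a3_grp (hr : 9 ≤ r) (π : H →* alternatingGroup (Fin r)) (hπ : Function.Surjective π)
    (hmin : ∀ N : Subgroup H, N.Normal → N ≤ π.ker ∨ N = ⊤) {l : ℕ} [Fact l.Prime] {Q : Type u} [Group Q]
    [Finite Q] (hc : ∀ x y : Q, x * y = y * x) (hp : ∀ x : Q, x ^ l = 1) (f : H → Q →* Q) (h1 : ∀ x, f 1 x = x)
    (h2 : ∀ g h x, f (g * h) x = f g (f h x)) (hnt : ∃ g x, f g x ≠ x) {n : ℕ} (hn : Nat.card Q ≤ n ^ 2)
    (IH : ∀ (l : ℕ) [Fact l.Prime] (d : ℕ), d < n → ∀ σ : Representation (AlgebraicClosure (ZMod l)) H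
      (Fin d → AlgebraicClosure (ZMod l)), (∀ h, σ h = 1 → π h = 1) → bd l r ≤ d) : r - 1 ≤ n := by
  let _ : CommGroup Q := { (inferInstance : Group Q) with mul_comm := hc }
  exact a3_fin (M := Additive Q) hr π hπ hmin hp (fun h => MonoidHom.toAdditive (f h)) h1 h2 hnt hn IH

theorem a_sec [Finite H] (hr : 9 ≤ r) (π : H →* alternatingGroup (Fin r)) (hπ : Function.Surjective π)
    (hmin : ∀ N : Subgroup H, N.Normal → N ≤ π.ker ∨ N = ⊤) (R Z : Subgroup H) [R.Normal] [hZ : Z.Normal]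
    {l : ℕ} [Fact l.Prime] (hcm : ∀ a ∈ R, ∀ b ∈ R, a * b * a⁻¹ * b⁻¹ ∈ Z) (hp : ∀ a ∈ R, a ^ l ∈ Z)
    (hnt : ∃ h, ∃ a ∈ R, h * a * h⁻¹ * a⁻¹ ∉ Z) {n : ℕ} (hn : Z.relIndex R ≤ n ^ 2)
    (IH : ∀ (l : ℕ) [Fact l.Prime] (d : ℕ), d < n → ∀ σ : Representation (AlgebraicClosure (ZMod l)) H
      (Fin d → AlgebraicClosure (ZMod l)), (∀ h, σ h = 1 → π h = 1) → bd l r ≤ d) : r - 1 ≤ n := by
  let m : H → (R ⧸ Z.subgroupOf R) →* (R ⧸ Z.subgroupOf R) := fun h =>
    QuotientGroup.map _ _ (MulAut.conjNormal (H := R) h).toMonoidHom fun a ha => hZ.conj_mem _ ha h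
  have hm : ∀ h (a : R), m h a = ((MulAut.conjNormal (H := R) h a : R) : R ⧸ Z.subgroupOf R) := fun h a => rfl
  refine a3_grp (l := l) hr π hπ hmin (fun x y => ?_) (fun x => ?_) m (fun x => ?_) (fun g h x => ?_) ?_ hn IH
  · obtain ⟨a, rfl⟩ := QuotientGroup.mk_surjective x
    obtain ⟨b, rfl⟩ := QuotientGroup.mk_surjective y
    rw [← QuotientGroup.mk_mul, ← QuotientGroup.mk_mul, QuotientGroup.eq, Subgroup.mem_subgroupOf]
    simpa [mul_assoc] using hcm _ (inv_mem b.2) _ (inv_mem a.2)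
  · obtain ⟨a, rfl⟩ := QuotientGroup.mk_surjective x
    rw [← QuotientGroup.mk_pow, QuotientGroup.eq_one_iff]
    exact hp a a.2
  · obtain ⟨a, rfl⟩ := QuotientGroup.mk_surjective x
    rw [hm, map_one]; rfl
  · obtain ⟨a, rfl⟩ := QuotientGroup.mk_surjective x
    rw [hm, hm, hm, map_mul]; rfl
  · obtain ⟨g, a, ha, h1⟩ := hnt
    refine ⟨g, (⟨a, ha⟩ : R), fun h3 => h1 ?_⟩
    rw [hm, eq_comm, QuotientGroup.eq, Subgroup.mem_subgroupOf] at h3
    simpa [mul_assoc] using hZ.conj_mem _ h3 a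

end Cfsg.Agent.AltL
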