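import Mathlib
import Cfsg.Agent.AltL.Def2

/-!
Linear algebra for the reduction to central extensions: weights of an abelian normal subgroup, and
the index of the centre of a group of class two acting with scalar centre.
-/

set_option autoImplicit false

namespace Cfsg.Agent.AltL

universe u

/-- common eigenvectors for distinct characters are independent -/
theorem ar_li {k W X ι : Type*} [Field k] [AddCommGroup W] [Module k W]
    (T : X → Module.End k W) (v : ι → W) (hv : ∀ i, v i ≠ 0) (l : ι → X → k)
    (hl : Function.Injective l) (h : ∀ x i, T x (v i) = l i x • v i) : LinearIndependent k v := by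
  classical
  rw [linearIndependent_iff']
  intro s
  induction s using Finset.induction_on with
  | empty => intro g _ i hi; simp at hi
  | insert a s ha ih =>
    intro g hg
    rw [Finset.sum_insert ha] at hg
    have key : ∀ i ∈ s, g i = 0 := by
      intro i hi
      have hne : l i ≠ l a := fun e => ha (hl e ▸ hi)
      obtain ⟨x, hx⟩ := Function.ne_iff.mp hne
      have h2 : ∑ j ∈ s, (g j * (l j x - l a x)) • v j = 0 := by
        have e1 : ∑ j ∈ s, (g j * (l j x - l a x)) • v j =
            T x (g a • v a + ∑ j ∈ s, g j • v j) - l a x • (g a • v a + ∑ j ∈ s, g j • v j) := by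
          simp only [map_add, map_sum, map_smul, h, smul_add, Finset.smul_sum, smul_smul, mul_sub,
            sub_smul, Finset.sum_sub_distrib]
          simp only [mul_comm (l a x)]
          abel
        rw [e1, hg]; simp
      have := ih _ h2 i hi
      exact (mul_eq_zero.mp this).resolve_right (sub_ne_zero.mpr hx)
    intro i hi
    rcases Finset.mem_insert.mp hi with rfl | hi
    · rw [Finset.sum_eq_zero (fun j hj => by rw [key j hj, zero_smul]), add_zero] at hg
      exact (smul_eq_zero.mp hg).resolve_right (hv _)
    · exact key i hi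

theorem sq_bound {k V : Type} [Field k] [AddCommGroup V] [Module k V] [FiniteDimensional k V]
    {R : Type u} [Group R] [Finite R] [Nontrivial V] (ρ : Representation k R V)
    (hinj : Function.Injective ρ) (hs : ∀ z ∈ Subgroup.center R, ∃ c : k, ρ z = c • 1)
    (hcl : ∀ a b : R, a * b * a⁻¹ * b⁻¹ ∈ Subgroup.center R) :
    (Subgroup.center R).index ≤ Module.finrank k V ^ 2 := by
  classical
  choose c hc using fun a b : R => hs _ (hcl a b)
  have hli : LinearIndependent k (fun q : R ⧸ Subgroup.center R => (ρ q.out : Module.End k V)) := by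
    refine ar_li (fun x : R => LinearMap.mulLeftRight k ((ρ x : Module.End k V), ρ x⁻¹)) _ ?_
      (fun q x => c x q.out) ?_ ?_
    · intro q h0
      have h1 : (ρ q.out : Module.End k V) * ρ q.out⁻¹ = 1 := by rw [← map_mul]; simp
      rw [h0, zero_mul] at h1
      exact zero_ne_one h1
    · intro q q' e
      have h1 : ∀ x : R, x * q.out * x⁻¹ * q.out⁻¹ = x * q'.out * x⁻¹ * q'.out⁻¹ := by
        intro x
        apply hinj
        rw [hc, hc]
        exact congrArg (fun t => t • (1 : Module.End k V)) (congrFun e x)
      rw [← QuotientGroup.out_eq' q, ← QuotientGroup.out_eq' q', QuotientGroup.eq,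
        Subgroup.mem_center_iff]
      intro y
      have h2 := h1 y⁻¹
      generalize q.out = g at h2
      generalize q'.out = g' at h2
      have h3 : g * y * g⁻¹ = g' * y * g'⁻¹ := by
        have := congrArg (fun t => y * t) h2
        simpa [mul_assoc] using this
      calc y * (g⁻¹ * g') = g⁻¹ * (g * y * g⁻¹) * g' := by group
        _ = g⁻¹ * (g' * y * g'⁻¹) * g' := by rw [h3]
        _ = g⁻¹ * g' * y := by group
    · intro x q
      have h1 : (ρ x : Module.End k V) * ρ q.out * ρ x⁻¹ =
          ρ (x * q.out * x⁻¹ * q.out⁻¹) * ρ q.out := by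
        rw [← map_mul, ← map_mul, ← map_mul]; congr 1; group
      rw [LinearMap.mulLeftRight_apply, h1, hc]
      simp
  haveI : Fintype (R ⧸ Subgroup.center R) := Fintype.ofFinite _
  have h := hli.fintype_card_le_finrank
  rw [Module.finrank_linearMap, ← pow_two] at h
  rw [Subgroup.index, Nat.card_eq_fintype_card]
  exact h

theorem ar_ss {k V : Type} [Field k] [AddCommGroup V] [Module k V]
    (f : Module.End k V) (n : ℕ) (hn : (n : k) ≠ 0) (hf : f ^ n = 1) : f.IsSemisimple := by
  apply Module.End.isSemisimple_of_squarefree_aeval_eq_zero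
    (p := Polynomial.X ^ n - Polynomial.C (1 : k))
  · exact (Polynomial.separable_X_pow_sub_C 1 hn one_ne_zero).squarefree
  · simp [hf]

theorem ab_case {k V : Type} [Field k] [IsAlgClosed k] [AddCommGroup V] [Module k V]
    [FiniteDimensional k V] {r : ℕ} (hr : 9 ≤ r) {H : Type u} [Group H] [Finite H]
    (π : H →* alternatingGroup (Fin r)) (hπ : Function.Surjective π)
    (hmin : ∀ N : Subgroup H, N.Normal → ¬ N ≤ π.ker → N = ⊤) (ρ : Representation k H V)
    (hinj : Function.Injective ρ) (R : Subgroup H) [hR : R.Normal]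
    (hab : ∀ a ∈ R, ∀ b ∈ R, a * b = b * a) (hcop : (Nat.card R : k) ≠ 0)
    (hnc : ¬ R ≤ Subgroup.center H) : r ≤ Module.finrank k V := by
  classical
  let f : R → Module.End k V := fun a => ρ a
  have hss : ∀ a : R, (f a).IsFinitelySemisimple := by
    intro a
    refine (ar_ss (f a) (Nat.card R) hcop ?_).isFinitelySemisimple
    have : (a : H) ^ Nat.card R = 1 := by
      rw [← Subgroup.coe_pow, pow_card_eq_one', Subgroup.coe_one]
    show (ρ a) ^ Nat.card R = 1
    rw [← map_pow, this, map_one]
  have htop : ⨆ χ : R → k, ⨅ a, (f a).eigenspace (χ a) = ⊤ := by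
    have := Module.End.iSup_iInf_maxGenEigenspace_eq_top_of_iSup_maxGenEigenspace_eq_top_of_commute
      f (fun a b _ => by
        show ρ a * ρ b = ρ b * ρ a
        rw [← map_mul, ← map_mul, hab _ a.2 _ b.2])
      (fun a => Module.End.iSup_maxGenEigenspace_eq_top (f a))
    simpa only [fun a => (hss a).maxGenEigenspace_eq_eigenspace] using this
  let Ω := {χ : R → k // ∃ v : V, v ≠ 0 ∧ ∀ a : R, ρ a v = χ a • v}
  let cj : H → R → R := fun h a => ⟨h⁻¹ * a * h, by simpa using hR.conj_mem _ a.2 h⁻¹⟩
  letI act : MulAction H Ω :=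
    { smul := fun h χ => ⟨fun a => χ.1 (cj h a), by
        obtain ⟨v, hv, hv'⟩ := χ.2
        refine ⟨ρ h v, fun h0 => hv ?_, fun a => ?_⟩
        · have : ρ h⁻¹ (ρ h v) = v := by
            rw [← Module.End.mul_apply, ← map_mul]; simp
          rw [← this, h0, map_zero]
        · rw [← map_smul, ← hv', ← Module.End.mul_apply, ← Module.End.mul_apply, ← map_mul,
            ← map_mul]
          congr 2
          show (a : H) * h = h * (h⁻¹ * a * h)
          group⟩
      one_smul := fun χ => Subtype.ext (funext fun a => by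
        show χ.1 (cj 1 a) = χ.1 a
        exact congrArg χ.1 (Subtype.ext (by simp [cj])))
      mul_smul := fun g h χ => Subtype.ext (funext fun a => by
        show χ.1 (cj (g * h) a) = χ.1 (cj h (cj g a))
        exact congrArg χ.1 (Subtype.ext (by simp [cj, mul_assoc]))) }
  choose v hv hv' using fun χ : Ω => χ.2
  have hli : LinearIndependent k v :=
    ar_li f v hv (fun χ => χ.1) Subtype.val_injective (fun a χ => hv' χ a)
  haveI : Finite Ω := hli.finite
  haveI : Fintype Ω := Fintype.ofFinite _
  have hm := hli.fintype_card_le_finrank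
  let φ := MulAction.toPermHom H Ω
  by_cases hN : φ.ker ≤ π.ker
  · have h1 : π.ker.index ∣ φ.ker.index := Subgroup.index_dvd_of_le hN
    rw [Subgroup.index_ker, Subgroup.index_ker, MonoidHom.range_eq_top.mpr hπ,
      Subgroup.card_top] at h1
    have h2 : Nat.card φ.range ≤ Nat.card (Equiv.Perm Ω) := Subgroup.card_le_card_group _
    have h3 := Nat.le_of_dvd Nat.card_pos h1
    haveI : Nontrivial (Fin r) := Fin.nontrivial_iff_two_le.mpr (by omega)
    have h4 := two_mul_nat_card_alternatingGroup (α := Fin r)
    rw [Nat.card_perm, Nat.card_eq_fintype_card (α := Fin r), Fintype.card_fin] at h4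
    rw [Nat.card_perm, Nat.card_eq_fintype_card (α := Ω)] at h2
    by_contra hlt
    obtain ⟨s, rfl⟩ : ∃ s, r = s + 1 := ⟨r - 1, by omega⟩
    have h5 : (Fintype.card Ω).factorial ≤ s.factorial := Nat.factorial_le (by omega)
    rw [Nat.factorial_succ] at h4
    have h6 := Nat.factorial_pos s
    nlinarith
  · exfalso
    have hT := hmin _ inferInstance hN
    apply hnc
    intro a ha
    rw [Subgroup.mem_center_iff]
    intro h
    have hh : h ∈ φ.ker := hT ▸ Subgroup.mem_top h
    have hfix : ∀ χ : Ω, χ.1 (cj h ⟨a, ha⟩) = χ.1 ⟨a, ha⟩ := by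
      intro χ
      have := congrArg (fun t : Equiv.Perm Ω => (t χ).1 ⟨a, ha⟩) (MonoidHom.mem_ker.mp hh)
      exact this
    have heq : ρ (h⁻¹ * a * h) = ρ a := by
      have hk : (⊤ : Submodule k V) ≤ LinearMap.ker (ρ (h⁻¹ * a * h) - ρ a) := by
        rw [← htop]
        refine iSup_le fun χ w hw => ?_
        by_cases h0 : w = 0
        · simp [h0]
        have hw' : ∀ b : R, ρ b w = χ b • w := fun b =>
          Module.End.mem_eigenspace_iff.mp ((Submodule.mem_iInf _).mp hw b)
        have := hfix ⟨χ, w, h0, hw'⟩
        rw [LinearMap.mem_ker, LinearMap.sub_apply, sub_eq_zero]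
        exact (hw' (cj h ⟨a, ha⟩)).trans (by rw [hw' ⟨a, ha⟩]; exact congrArg (· • w) this)
      rw [top_le_iff, LinearMap.ker_eq_top, sub_eq_zero] at hk
      exact hk
    have := hinj heq
    calc h * a = h * (h⁻¹ * a * h) := by rw [this]
      _ = a * h := by group

end Cfsg.Agent.AltL
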