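import Mathlib
import Cfsg.Agent.AltL.Def2

/-!
Joint eigenvectors of two commuting elements of order `5` or `3`.
-/

set_option autoImplicit false

namespace Cfsg.Agent.AltL

universe u

section
variable {k : Type} [Field k] [IsAlgClosed k] {V : Type} [AddCommGroup V] [Module k V]
  [FiniteDimensional k V]

/-- a joint eigenvector -/
def W5P (A B : Module.End k V) (a b : k) : Prop := ∃ v : V, v ≠ 0 ∧ A v = a • v ∧ B v = b • v

theorem w5_eig (A : Module.End k V) (S : Submodule k V) (hS : S ≠ ⊥) (h : ∀ v ∈ S, A v ∈ S) :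
    ∃ a : k, ∃ v ∈ S, v ≠ 0 ∧ A v = a • v := by
  haveI : Nontrivial S := Submodule.nontrivial_iff_ne_bot.mpr hS
  obtain ⟨a, ha⟩ := Module.End.exists_eigenvalue (A.restrict h)
  obtain ⟨v, hv⟩ := ha.exists_hasEigenvector
  refine ⟨a, v.1, v.2, fun h0 => hv.2 (Subtype.ext h0), ?_⟩
  have := congrArg Subtype.val hv.apply_eq_smul
  simpa using this

theorem w5_joint (A B : Module.End k V) (hAB : A * B = B * A) (S : Submodule k V) (hS : S ≠ ⊥)
    (hA : ∀ v ∈ S, A v ∈ S) (hB : ∀ v ∈ S, B v ∈ S) :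
    ∃ a b : k, ∃ v ∈ S, v ≠ 0 ∧ A v = a • v ∧ B v = b • v := by
  obtain ⟨a, v, hv, hv0, hva⟩ := w5_eig A S hS hA
  have hne : S ⊓ Module.End.eigenspace A a ≠ ⊥ := by
    intro h0
    have : v ∈ S ⊓ Module.End.eigenspace A a := ⟨hv, Module.End.mem_eigenspace_iff.mpr hva⟩
    rw [h0] at this
    exact hv0 ((Submodule.mem_bot k).mp this)
  obtain ⟨b, x, hx, hx0, hxb⟩ := w5_eig B _ hne (by
    intro x hx
    refine ⟨hB x hx.1, Module.End.mem_eigenspace_iff.mpr ?_⟩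
    have h1 : A x = a • x := Module.End.mem_eigenspace_iff.mp hx.2
    have h2 : A (B x) = B (A x) := by
      rw [← Module.End.mul_apply, hAB, Module.End.mul_apply]
    rw [h2, h1, map_smul])
  exact ⟨a, b, x, hx.1, hx0, Module.End.mem_eigenspace_iff.mp hx.2, hxb⟩

theorem w5_card (A B : Module.End k V) (s : Finset (k × k)) (h : ∀ x ∈ s, W5P A B x.1 x.2) :
    s.card ≤ Module.finrank k V := by
  classical
  obtain ⟨t, ht⟩ := Infinite.exists_notMem_finset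
    ((s ×ˢ s).image fun q : (k × k) × (k × k) => (q.2.1 - q.1.1) / (q.1.2 - q.2.2))
  choose v hv0 hvA hvB using fun x : s => h x.1 x.2
  have hinj : Function.Injective fun x : s => x.1.1 + t * x.1.2 := by
    intro x y hxy
    have hxy' : x.1.1 + t * x.1.2 = y.1.1 + t * y.1.2 := hxy
    by_cases h2 : x.1.2 = y.1.2
    · apply Subtype.ext
      apply Prod.ext _ h2
      rw [h2] at hxy'
      exact add_right_cancel hxy'
    · exfalso
      apply ht
      refine Finset.mem_image.mpr ⟨(x.1, y.1), Finset.mem_product.mpr ⟨x.2, y.2⟩, ?_⟩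
      have h3 : x.1.2 - y.1.2 ≠ 0 := sub_ne_zero.mpr h2
      show (y.1.1 - x.1.1) / (x.1.2 - y.1.2) = t
      rw [div_eq_iff h3]
      linear_combination -hxy'
  have hli := Module.End.eigenvectors_linearIndependent' (A + t • B)
    (fun x : s => x.1.1 + t * x.1.2) hinj v (by
      intro x
      refine ⟨Module.End.mem_eigenspace_iff.mpr ?_, hv0 x⟩
      rw [LinearMap.add_apply, LinearMap.smul_apply, hvA, hvB, add_smul, smul_smul])
  have := hli.fintype_card_le_finrank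
  simpa using this

theorem w5_card' (A B : Module.End k V) {a : k} {l : ℕ} (ha : IsPrimitiveRoot a l)
    (s : Finset (ℕ × ℕ)) (hs : ∀ x ∈ s, x.1 < l ∧ x.2 < l)
    (h : ∀ x ∈ s, W5P A B (a ^ x.1) (a ^ x.2)) : s.card ≤ Module.finrank k V := by
  classical
  have h1 := w5_card A B (s.image fun x => (a ^ x.1, a ^ x.2)) (by
    intro y hy
    obtain ⟨x, hx, rfl⟩ := Finset.mem_image.mp hy
    exact h x hx)
  rwa [Finset.card_image_of_injOn] at h1
  intro x hx y hy hxy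
  have e := Prod.mk.inj hxy
  exact Prod.ext (ha.pow_inj (hs x hx).1 (hs y hy).1 e.1) (ha.pow_inj (hs x hx).2 (hs y hy).2 e.2)

omit [IsAlgClosed k] [FiniteDimensional k V] in
theorem w5_pow (A : Module.End k V) {a : k} {v : V} (h : A v = a • v) (n : ℕ) :
    (A ^ n) v = a ^ n • v := by
  induction n with
  | zero => simp
  | succ n ih => rw [pow_succ, Module.End.mul_apply, h, map_smul, ih, smul_smul, pow_succ, mul_comm]

omit [IsAlgClosed k] [FiniteDimensional k V] in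
theorem w5_root (A : Module.End k V) {a : k} {v : V} (hv : v ≠ 0) (h : A v = a • v) {n : ℕ}
    (hn : A ^ n = 1) : a ^ n = 1 := by
  have h1 := w5_pow A h n
  rw [hn, Module.End.one_apply] at h1
  have h2 : (a ^ n - 1) • v = 0 := by rw [sub_smul, ← h1, one_smul, sub_self]
  rcases smul_eq_zero.mp h2 with h3 | h3
  · exact sub_eq_zero.mp h3
  · exact absurd h3 hv

omit [IsAlgClosed k] [FiniteDimensional k V] in
theorem w5_ne (A : Module.End k V) {a : k} {v x : V} (hv : v ≠ 0) (h : A v = a • v) {n : ℕ}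
    (hn : A ^ n = 1) (hk : (n : k) ≠ 0) (hx : (A - 1) x = v) : a ≠ 1 := by
  intro ha
  subst ha
  have h1 : (∑ i ∈ Finset.range n, A ^ i) * (A - 1) = 0 := by rw [geom_sum_mul, hn, sub_self]
  have h2 : (∑ i ∈ Finset.range n, A ^ i) v = 0 := by
    rw [← hx, ← Module.End.mul_apply, h1, LinearMap.zero_apply]
  rw [LinearMap.sum_apply, Finset.sum_congr rfl (fun i _ => w5_pow A h i)] at h2
  simp only [one_pow, one_smul, Finset.sum_const, Finset.card_range] at h2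
  rw [← Nat.cast_smul_eq_nsmul k] at h2
  rcases smul_eq_zero.mp h2 with h3 | h3
  · exact hk h3
  · exact hv h3

omit [IsAlgClosed k] [FiniteDimensional k V] in
theorem w5_move {H : Type u} [Group H] (ρ : Representation k H V) (y g y' : H) {v : V} {a : k}
    (hg : g * y * g⁻¹ = y') (h : ρ y' v = a • v) : ρ y (ρ g⁻¹ v) = a • ρ g⁻¹ v := by
  have e : y * g⁻¹ = g⁻¹ * y' := by rw [← hg]; group
  rw [← Module.End.mul_apply, ← map_mul, e, map_mul, Module.End.mul_apply, h, map_smul]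

omit [IsAlgClosed k] [FiniteDimensional k V] in
theorem w5_nz {H : Type u} [Group H] (ρ : Representation k H V) (g : H) {v : V} (hv : v ≠ 0) :
    ρ g⁻¹ v ≠ 0 := by
  intro h0
  apply hv
  have : ρ g (ρ g⁻¹ v) = v := by
    rw [← Module.End.mul_apply, ← map_mul, mul_inv_cancel, map_one, Module.End.one_apply]
  rw [← this, h0, map_zero]

end

theorem w5_orb (R : ℕ → ℕ → Prop) (m1 : ∀ i j, R i j → R j (2 * i % 5))
    (m2 : ∀ i j, R i j → R (4 * i % 5) j) (j : ℕ) (h1 : 0 < j) (h2 : j < 5) (h : R 1 j) :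
    ∀ x ∈ (Finset.Icc 1 4 ×ˢ Finset.Icc 1 4 : Finset (ℕ × ℕ)), R x.1 x.2 := by
  have a43 : R 4 3 → R 1 1 := fun h => m1 3 1 (m1 3 3 (m1 4 3 h))
  have h11 : R 1 1 := by
    interval_cases j
    · exact h
    · exact a43 (m1 4 4 (m1 2 4 (m1 2 2 (m1 1 2 h))))
    · exact a43 (m2 1 3 h)
    · exact a43 (m1 4 4 (m2 1 4 h))
  have h12 : R 1 2 := m1 1 1 h11
  have h22 : R 2 2 := m1 1 2 h12
  have h24 : R 2 4 := m1 2 2 h22
  have h44 : R 4 4 := m1 2 4 h24
  have h43 : R 4 3 := m1 4 4 h44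
  have h33 : R 3 3 := m1 4 3 h43
  have h31 : R 3 1 := m1 3 3 h33
  have h41 : R 4 1 := m2 1 1 h11
  have h42 : R 4 2 := m2 1 2 h12
  have h32 : R 3 2 := m2 2 2 h22
  have h34 : R 3 4 := m2 2 4 h24
  have h14 : R 1 4 := m2 4 4 h44
  have h13 : R 1 3 := m2 4 3 h43
  have h23 : R 2 3 := m2 3 3 h33
  have h21 : R 2 1 := m2 3 1 h31
  rintro ⟨i, j⟩ hx
  simp only [Finset.mem_product, Finset.mem_Icc] at hx
  obtain ⟨⟨a1, a2⟩, b1, b2⟩ := hx
  interval_cases i <;> interval_cases j <;> assumption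

theorem lw5b : LW5.{u} := by
  intro k _ _ V _ _ _ H _ ρ h5 y₁ y₂ w c e1 e2 hc hw1 hw2 hc1 hc2 hne
  have hAB : ρ y₁ * ρ y₂ = ρ y₂ * ρ y₁ := by rw [← map_mul, ← map_mul, hc]
  have hA5 : ρ y₁ ^ 5 = 1 := by rw [← map_pow, e1, map_one]
  have hB5 : ρ y₂ ^ 5 = 1 := by rw [← map_pow, e2, map_one]
  have hcm : Commute (ρ y₁) (ρ y₂) := hAB
  have cA : ρ y₁ * ((ρ y₁ - 1) * (ρ y₂ - 1)) = ((ρ y₁ - 1) * (ρ y₂ - 1)) * ρ y₁ :=
    (((Commute.refl _).sub_right (Commute.one_right _)).mul_right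
      (hcm.sub_right (Commute.one_right _))).eq
  have cB : ρ y₂ * ((ρ y₁ - 1) * (ρ y₂ - 1)) = ((ρ y₁ - 1) * (ρ y₂ - 1)) * ρ y₂ :=
    ((hcm.symm.sub_right (Commute.one_right _)).mul_right
      ((Commute.refl _).sub_right (Commute.one_right _))).eq
  have cC : (ρ y₁ - 1) * (ρ y₂ - 1) = (ρ y₂ - 1) * (ρ y₁ - 1) :=
    ((hcm.sub_right (Commute.one_right _)).sub_left (Commute.one_left _)).eq
  obtain ⟨a, b, v, ⟨x, hx⟩, hv0, hva, hvb⟩ := w5_joint (ρ y₁) (ρ y₂) hAB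
    (LinearMap.range ((ρ y₁ - 1) * (ρ y₂ - 1))) (by rwa [Ne, LinearMap.range_eq_bot])
    (by
      rintro _ ⟨x, rfl⟩
      exact ⟨ρ y₁ x, by rw [← Module.End.mul_apply, ← cA, Module.End.mul_apply]⟩)
    (by
      rintro _ ⟨x, rfl⟩
      exact ⟨ρ y₂ x, by rw [← Module.End.mul_apply, ← cB, Module.End.mul_apply]⟩)
  have ha1 : a ≠ 1 := w5_ne (ρ y₁) hv0 hva hA5 (by exact_mod_cast h5) (x := (ρ y₂ - 1) x)
    (by rw [← hx, Module.End.mul_apply])
  have hb1 : b ≠ 1 := w5_ne (ρ y₂) hv0 hvb hB5 (by exact_mod_cast h5) (x := (ρ y₁ - 1) x)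
    (by rw [← hx, cC, Module.End.mul_apply])
  have ha5 := w5_root _ hv0 hva hA5
  have hb5 := w5_root _ hv0 hvb hB5
  haveI : Fact (Nat.Prime 5) := ⟨by norm_num⟩
  have hpr : IsPrimitiveRoot a 5 := by
    have := IsPrimitiveRoot.orderOf a
    rwa [orderOf_eq_prime ha5 ha1] at this
  obtain ⟨j, hj, hjb⟩ := hpr.eq_pow_of_pow_eq_one hb5
  have hj0 : 0 < j := by
    rcases Nat.eq_zero_or_pos j with h0 | h0
    · subst h0; exact absurd (by simpa using hjb.symm) hb1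
    · exact h0
  have hmod : ∀ n : ℕ, a ^ (n % 5) = a ^ n := fun n => by
    conv_rhs => rw [← Nat.mod_add_div n 5, pow_add, pow_mul, ha5, one_pow, mul_one]
  have hinv : y₁⁻¹ = y₁ ^ 4 := by
    rw [inv_eq_iff_mul_eq_one, ← pow_succ', e1]
  have key := w5_orb (fun i j => W5P (ρ y₁) (ρ y₂) (a ^ i) (a ^ j))
    (by
      rintro i j ⟨v, hv0, h1, h2⟩
      refine ⟨ρ w⁻¹ v, w5_nz ρ w hv0, w5_move ρ y₁ w y₂ hw1 h2, w5_move ρ y₂ w _ hw2 ?_⟩
      rw [map_pow, w5_pow _ h1, hmod, ← pow_mul, mul_comm])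
    (by
      rintro i j ⟨v, hv0, h1, h2⟩
      refine ⟨ρ c⁻¹ v, w5_nz ρ c hv0, w5_move ρ y₁ c _ hc1 ?_, w5_move ρ y₂ c _ hc2 h2⟩
      rw [hinv, map_pow, w5_pow _ h1, hmod, ← pow_mul, mul_comm])
    j hj0 hj ⟨v, hv0, by rw [pow_one]; exact hva, by rw [hjb]; exact hvb⟩
  have := w5_card' (ρ y₁) (ρ y₂) hpr _ (by
    rintro ⟨i, j⟩ hx
    simp only [Finset.mem_product, Finset.mem_Icc] at hx
    constructor <;> simp only <;> omega) key
  simpa using this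

theorem lw3b : LW3.{u} := by
  intro k _ _ V _ _ _ H _ ρ h3 y₁ y₂ w e1 e2 hc hw1 hw2 hne
  have hAB : ρ y₁ * ρ y₂ = ρ y₂ * ρ y₁ := by rw [← map_mul, ← map_mul, hc]
  have hA5 : ρ y₁ ^ 3 = 1 := by rw [← map_pow, e1, map_one]
  have hB5 : ρ y₂ ^ 3 = 1 := by rw [← map_pow, e2, map_one]
  have hcm : Commute (ρ y₁) (ρ y₂) := hAB
  have cA : ρ y₁ * (ρ y₁ - 1) = (ρ y₁ - 1) * ρ y₁ :=
    ((Commute.refl _).sub_right (Commute.one_right _)).eq
  have cB : ρ y₂ * (ρ y₁ - 1) = (ρ y₁ - 1) * ρ y₂ :=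
    (hcm.symm.sub_right (Commute.one_right _)).eq
  obtain ⟨a, b, v, ⟨x, hx⟩, hv0, hva, hvb⟩ := w5_joint (ρ y₁) (ρ y₂) hAB
    (LinearMap.range (ρ y₁ - 1)) (by rwa [Ne, LinearMap.range_eq_bot, sub_eq_zero])
    (by
      rintro _ ⟨x, rfl⟩
      exact ⟨ρ y₁ x, by rw [← Module.End.mul_apply, ← cA, Module.End.mul_apply]⟩)
    (by
      rintro _ ⟨x, rfl⟩
      exact ⟨ρ y₂ x, by rw [← Module.End.mul_apply, ← cB, Module.End.mul_apply]⟩)
  have ha1 : a ≠ 1 := w5_ne (ρ y₁) hv0 hva hA5 (by exact_mod_cast h3) hx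
  have ha5 := w5_root _ hv0 hva hA5
  have hb5 := w5_root _ hv0 hvb hB5
  haveI : Fact (Nat.Prime 3) := ⟨by norm_num⟩
  have hpr : IsPrimitiveRoot a 3 := by
    have := IsPrimitiveRoot.orderOf a
    rwa [orderOf_eq_prime ha5 ha1] at this
  obtain ⟨j, hj, hjb⟩ := hpr.eq_pow_of_pow_eq_one hb5
  have hmod : ∀ n : ℕ, a ^ (n % 3) = a ^ n := fun n => by
    conv_rhs => rw [← Nat.mod_add_div n 3, pow_add, pow_mul, ha5, one_pow, mul_one]
  have hinv : y₁⁻¹ = y₁ ^ 2 := by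
    rw [inv_eq_iff_mul_eq_one, ← pow_succ', e1]
  have m1 : ∀ i j : ℕ, W5P (ρ y₁) (ρ y₂) (a ^ i) (a ^ j) →
      W5P (ρ y₁) (ρ y₂) (a ^ j) (a ^ (2 * i % 3)) := by
    rintro i j ⟨v, hv0, h1, h2⟩
    refine ⟨ρ w⁻¹ v, w5_nz ρ w hv0, w5_move ρ y₁ w y₂ hw1 h2, w5_move ρ y₂ w _ hw2 ?_⟩
    rw [hinv, map_pow, w5_pow _ h1, hmod, ← pow_mul, mul_comm]
  have h0 : W5P (ρ y₁) (ρ y₂) (a ^ 1) (a ^ j) :=
    ⟨v, hv0, by rw [pow_one]; exact hva, by rw [hjb]; exact hvb⟩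
  have h1 := m1 _ _ h0
  have h2 := m1 _ _ h1
  have h3 := m1 _ _ h2
  have := w5_card' (ρ y₁) (ρ y₂) hpr
    ({(1, j), (j, 2 * 1 % 3), (2 * 1 % 3, 2 * j % 3), (2 * j % 3, 2 * (2 * 1 % 3) % 3)} : Finset (ℕ × ℕ))
    (by
      intro x hx
      simp only [Finset.mem_insert, Finset.mem_singleton] at hx
      rcases hx with rfl | rfl | rfl | rfl <;> constructor <;> simp only <;> omega)
    (by
      intro x hx
      simp only [Finset.mem_insert, Finset.mem_singleton] at hx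
      rcases hx with rfl | rfl | rfl | rfl
      exacts [h0, h1, h2, h3])
  refine le_trans (le_of_eq ?_) this
  interval_cases j <;> decide

end Cfsg.Agent.AltL
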